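import Cfsg.Agent.Lib.H91.TCU43D.Data
import Cfsg.Agent.Lib.H35.TC
set_option autoImplicit false
set_option maxRecDepth 100000
set_option linter.all false
namespace H91.TCU43D
open H35.TC
/-- letters -/
inductive Lt | c | e
  deriving DecidableEq
/-- inverse letter -/
def inv : Lt → Lt
  | .c => .c
  | .e => .e
/-- table functions -/
noncomputable def T : Lt → ℕ → ℕ
  | .c => T_c
  | .e => T_e
/-- decoding of letter codes -/
def lt : ℕ → Lt
  | 0 => .c
  | _ => .e
/-- Coxeter matrix (0: no relation) -/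
def mm : Lt → Lt → ℕ
  | .c, .c => 1
  | .c, .e => 6
  | .e, .c => 6
  | .e, .e => 1
/-- extra relators `w ^ n` -/
def extra : List (List Lt × ℕ) := [
  ]
/-- relators -/
def rels : List (List Lt) := mkRels [(.c, .e), (.c, .c), (.e, .e)] mm extra
/-- subgroup words -/
def subs : List (List Lt) := [
  [.c]]
noncomputable def disp_c (j u : ℕ) : Bool :=
  Bool.rec (motive := fun _ => Bool) (lDef P (nat_lit 0) (Nat.mod (T_c u) M) u) (Bool.rec (motive := fun _ => Bool) (lDef P (nat_lit 0) u (Nat.mod (T_c u) M)) (Bool.rec (motive := fun _ => Bool) (lH [] [] M (Nat.sub (T_c u) (Nat.mod (T_c u) M)) (Nat.mod (T_c u) M) u) (lF [T_e, T_c, T_e, T_c, T_e, T_c, T_e, T_c, T_e, T_c, T_e] M (Nat.sub (T_c u) (Nat.mod (T_c u) M)) (Nat.mod (T_c u) M) u) (Nat.ble (nat_lit 3) j)) (Nat.ble (nat_lit 2) j)) (Nat.ble (nat_lit 1) j)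
noncomputable def chk_c (j u : ℕ) : Bool :=
  Bool.rec (motive := fun _ => Bool) (disp_c j u) (Nat.ble (Nat.succ (MG u)) A) (Nat.ble A (T_c u))
noncomputable def disp_e (j u : ℕ) : Bool :=
  Bool.rec (motive := fun _ => Bool) (lDef P (nat_lit 1) (Nat.mod (T_e u) M) u) (lDef P (nat_lit 1) u (Nat.mod (T_e u) M)) (Nat.ble (nat_lit 1) j)
noncomputable def chk_e (j u : ℕ) : Bool :=
  Bool.rec (motive := fun _ => Bool) (disp_e j u) (Nat.ble (Nat.succ (MG u)) A) (Nat.ble A (T_e u))
noncomputable def chkM (u : ℕ) : Bool := Nat.ble A (MG u)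
noncomputable def chkN (u : ℕ) : Bool :=
  band (chk_c (Nat.land (Nat.shiftRight (RS u) (nat_lit 0)) (nat_lit 15)) u) (band (chk_e (Nat.land (Nat.shiftRight (RS u) (nat_lit 4)) (nat_lit 15)) u) (chkM u))
noncomputable def chkP (u : ℕ) : Bool := Bool.rec (motive := fun _ => Bool) (chkN u) true (Nat.ble M u)
noncomputable def liveP (u : ℕ) : Bool := Bool.rec (motive := fun _ => Bool) (Nat.ble A (MG u)) false (Nat.ble M u)
end H91.TCU43D
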