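import Mathlib.Init
set_option autoImplicit false
set_option maxRecDepth 100000
set_option linter.all false
namespace H91.TCU43D
noncomputable def T_c_0 (i : Nat) : Nat := Nat.land (Nat.shiftRight (nat_lit 0x22320446) (Nat.mul (nat_lit 5) (Nat.land i (nat_lit 4095)))) (nat_lit 31)
noncomputable abbrev T_c : Nat → Nat := T_c_0
noncomputable def T_e_0 (i : Nat) : Nat := Nat.land (Nat.shiftRight (nat_lit 0x8510c01) (Nat.mul (nat_lit 5) (Nat.land i (nat_lit 4095)))) (nat_lit 31)
noncomputable abbrev T_e : Nat → Nat := T_e_0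
noncomputable def P_0 (i : Nat) : Nat := Nat.land (Nat.shiftRight (nat_lit 0x20b04240080) (Nat.mul (nat_lit 7) (Nat.land i (nat_lit 4095)))) (nat_lit 127)
noncomputable abbrev P : Nat → Nat := P_0
noncomputable def MG_0 (i : Nat) : Nat := Nat.land (Nat.shiftRight (nat_lit 0x3fffffff) (Nat.mul (nat_lit 5) (Nat.land i (nat_lit 4095)))) (nat_lit 31)
noncomputable abbrev MG : Nat → Nat := MG_0
noncomputable def RS_0 (i : Nat) : Nat := Nat.land (Nat.shiftRight (nat_lit 0x130110011002) (Nat.mul (nat_lit 8) (Nat.land i (nat_lit 4095)))) (nat_lit 255)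
noncomputable abbrev RS : Nat → Nat := RS_0
noncomputable def MR_0 (i : Nat) : Nat := Nat.land (Nat.shiftRight (nat_lit 0x0) (Nat.mul (nat_lit 1) (Nat.land i (nat_lit 32767)))) (nat_lit 1)
noncomputable abbrev MR : Nat → Nat := MR_0
/-- number of nodes -/
abbrev M : Nat := 6
/-- absent threshold -/
abbrev A : Nat := 31
end H91.TCU43D
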